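import Groth.Agent.H14AlgSt.FieldPoint
import Groth.Agent.H14AlgSt.PointsMor
import Groth.Agent.H14AlgSt.SigmaChart
import Groth.Agent.H14AlgSt.QC
import Groth.Agent.H14AlgSt.Noeth
import Groth.Agent.H12AlgSp.ValuativeClosed
import Groth.Agent.H17.QcImage

/-!
# Valuation rings reaching points in the closure of the image of a quasi-compact morphism of stacks
-/

set_option autoImplicit false
set_option backward.isDefEq.respectTransparency false
set_option backward.isDefEq.respectTransparency.types false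

universe u

open CategoryTheory CategoryTheory.Limits AlgebraicGeometry Opposite IsLocalRing

noncomputable section

namespace Groth.Agent.H14ValLift

open H14Fib H14Stk H14AlgSt

variable {S : Scheme.{u}} {𝒳 𝒴 : AlgSt.Cat S}

/-- Points in the closure of the image of a quasi-compact morphism are reached by valuation rings. -/
theorem exists_valuation_closure (h𝒳 : AlgSt.IsAlgStack Scheme.fppfPrecoverage 𝒳)
    (h𝒴 : AlgSt.IsAlgStack Scheme.fppfPrecoverage 𝒴) (f : 𝒳 ⥤ᵇ 𝒴)
    (hf : AlgSt.IsQuasiCompactMor Scheme.fppfPrecoverage f)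
    (y : AlgSt.Points 𝒴) (hy : y ∈ closure (Set.range (AlgSt.Points.map f))) :
    ∃ (A : Type u) (_ : CommRing A) (_ : IsDomain A) (_ : ValuationRing A) (sA : Spec (CommRingCat.of A) ⟶ S)
      (a : FibCat.overCat (Over.mk sA) ⥤ᵇ 𝒴)
      (x : FibCat.overCat (Over.mk (Spec.map (CommRingCat.ofHom (algebraMap A (FractionRing A))) ≫ sA)) ⥤ᵇ 𝒳),
      Nonempty (BasedFunctor.comp x f ≅
        BasedFunctor.comp (AlgSt.overMap (Over.homMk (Spec.map (CommRingCat.ofHom (algebraMap A (FractionRing A)))) rfl :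
          Over.mk (Spec.map (CommRingCat.ofHom (algebraMap A (FractionRing A))) ≫ sA) ⟶ Over.mk sA)) a) ∧
      AlgSt.Points.ofChart a (IsLocalRing.closedPoint A) = y := by
  obtain ⟨U, z, hz, hzs⟩ := h𝒴.atlas
  obtain ⟨u₁, hu₁⟩ := ofChart_surjective h𝒴.isStack.1 hzs y
  obtain ⟨(U₀ : U.left.Opens), (hU₀ : IsAffineOpen U₀), hmem, -⟩ := TopologicalSpace.Opens.isBasis_iff_nbhd.mp U.left.isBasis_affineOpens
    (TopologicalSpace.Opens.mem_top u₁)
  let V : Over S := Over.mk (U₀.ι ≫ U.hom)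
  let i : V ⟶ U := Over.homMk U₀.ι rfl
  haveI : IsAffine V.left := hU₀
  let u : V.left := ⟨u₁, hmem⟩
  let y₀ := BasedFunctor.comp (AlgSt.overMap i) z
  have hy₀ : AlgSt.RepByAlgSpWith (AlgSp.LocP @Smooth) y₀ :=
    repWith_locP_comp H12AlgSp.etLocal_smooth (fibGrpd_overCat V) (fibGrpd_overCat U)
      (haveI : IsOpenImmersion i.left := inferInstanceAs (IsOpenImmersion U₀.ι)
       repWith_overMap_smooth i) hz
  have hopen := isOpenMap_ofChart h𝒴.isStack.1 (repWith_locP_mono smooth_le_flat hy₀)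
    (repWith_locP_mono smooth_le_lfp hy₀)
  have hu : AlgSt.Points.ofChart y₀ u = y := by
    rw [ofChart_comp_overMap]
    exact hu₁
  obtain ⟨B, b, hB, hb, hbs⟩ := hf _ (isAlgStack_overCat V) (isQuasiCompact_overCat V) y₀
  obtain ⟨h, ⟨j⟩⟩ := exists_overMap_iso (BasedFunctor.comp b (FibCat.fpFst y₀ f))
  haveI : IsAffine B.left := hB
  have hcl : u ∈ closure (Set.range h.left) := by
    refine mem_closure_iff.2 fun O hO huO => ?_
    obtain ⟨_, ⟨o, ho, rfl⟩, p, hp⟩ := mem_closure_iff.1 hy _ (hopen O hO) ⟨u, huO, hu⟩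
    rw [ofChart_eq_map] at hp
    obtain ⟨w, hw, -⟩ := exists_points_fp (fibGrpd_overCat V) h𝒳.isStack.1 h𝒴.isStack.1 (F := y₀) (G := f) hp.symm
    obtain ⟨v, hv⟩ := ofChart_surjective
      (fp_fibGrpd (fibGrpd_overCat V) h𝒳.isStack.1 h𝒴.isStack.1) hbs w
    have h1 : AlgSt.Points.ofChart (BasedFunctor.comp b (FibCat.fpFst y₀ f)) v =
        AlgSt.Points.ofChart (BasedFunctor.id (FibCat.overCat V)) o := by
      rw [ofChart_comp, hv, hw]
    rw [ofChart_iso j v, ofChart_eq_map] at h1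
    have h2 := congrArg chartPoint h1
    rw [chartPoint_overMap, chartPoint_ofChart, chartPoint_ofChart] at h2
    exact ⟨o, ho, v, h2⟩
  obtain ⟨x₀, hx₀⟩ := H17.exists_specializes_of_mem_closure_range h.left hcl
  obtain ⟨A, bA, hbA, hsq⟩ := H12AlgSp.exists_valuation_of_specializes h.left x₀ hx₀
  let T : Over S := Over.mk (bA ≫ V.hom)
  let bT : T ⟶ V := Over.homMk bA rfl
  let K := B.left.residueField x₀
  let e : FractionRing A ≃ₐ[A] K := FractionRing.algEquiv A K
  let j₀ : Spec (CommRingCat.of (FractionRing A)) ⟶ B.left :=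
    Spec.map (CommRingCat.ofHom e.symm.toAlgHom.toRingHom) ≫ B.left.fromSpecResidueField x₀
  have hj₀ : j₀ ≫ h.left = Spec.map (CommRingCat.ofHom (algebraMap A (FractionRing A))) ≫ bA := by
    rw [Category.assoc, ← hsq, ← Category.assoc, ← Spec.map_comp]
    congr 2
    exact CommRingCat.hom_ext (e.symm.toAlgHom.comp_algebraMap)
  let T' : Over S := Over.mk (Spec.map (CommRingCat.ofHom (algebraMap A (FractionRing A))) ≫ bA ≫ V.hom)
  let φT : T' ⟶ T := Over.homMk (Spec.map (CommRingCat.ofHom (algebraMap A (FractionRing A)))) rfl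
  let d : T' ⟶ B := Over.homMk j₀ (by
    change j₀ ≫ B.hom = Spec.map _ ≫ bA ≫ V.hom
    rw [← Over.w h, ← Category.assoc, hj₀, Category.assoc])
  have hd : d ≫ h = φT ≫ bT := Over.OverMorphism.ext hj₀
  refine ⟨A, inferInstance, inferInstance, inferInstance, bA ≫ V.hom, BasedFunctor.comp (AlgSt.overMap bT) y₀,
    BasedFunctor.comp (AlgSt.overMap d) (BasedFunctor.comp b (FibCat.fpSnd y₀ f)), ?_, ?_⟩
  · have e₂ : BasedFunctor.comp (BasedFunctor.comp b (FibCat.fpSnd y₀ f)) f ≅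
        BasedFunctor.comp (AlgSt.overMap h) y₀ :=
      ((Stk.restr b 𝒴).mapIso (FibCat.fpIso y₀ f)).symm ≪≫ (post (FibCat.overCat B) y₀).mapIso j
    obtain ⟨k₁⟩ := overMap_comp_iso d h y₀ h𝒴.isStack.1
    obtain ⟨k₂⟩ := overMap_comp_iso φT bT y₀ h𝒴.isStack.1
    exact ⟨(Stk.restr (AlgSt.overMap d) 𝒴).mapIso e₂ ≪≫ k₁ ≪≫ eqToIso (by rw [hd]) ≪≫ k₂.symm⟩
  · rw [ofChart_comp_overMap]
    refine Eq.trans ?_ hu
    exact congrArg (AlgSt.Points.ofChart y₀) hbA

end Groth.Agent.H14ValLift
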