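import Groth.Agent.H14AlgSt.FieldPoint
import Groth.Agent.H14AlgSt.LocQ4
import Groth.Agent.H14AlgSt.DiagProps
import Groth.Agent.H14AlgSt.PointsMor
import Groth.Agent.H14AlgSt.SigmaChart
import Groth.Agent.H12AlgSp.ValuativeClosed
import Mathlib.AlgebraicGeometry.Morphisms.UniversallyOpen

/-!
# Valuation rings lifting along flat morphisms of stacks
-/

set_option autoImplicit false
set_option backward.isDefEq.respectTransparency false
set_option backward.isDefEq.respectTransparency.types false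

universe u

open CategoryTheory CategoryTheory.Limits AlgebraicGeometry Opposite IsLocalRing

noncomputable section

namespace Groth.Agent.H14ValLift

open H14Fib H14Stk H14AlgSt

variable {S : Scheme.{u}} {𝒳 𝒴 : AlgSt.Cat S}

/-- A flat morphism to a valuation ring with a point over the closed point is dominated by an extension. -/
theorem exists_extension {A : Type u} [CommRing A] [IsDomain A] [ValuationRing A] {V : Scheme.{u}}
    (h : V ⟶ Spec (CommRingCat.of A)) [Flat h] (v : V) (hv : h v = closedPoint A) :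
    ∃ (A' : Type u) (_ : CommRing A') (_ : IsDomain A') (_ : ValuationRing A') (φ : A →+* A')
      (b : Spec (CommRingCat.of A') ⟶ V),
      Function.Injective φ ∧ IsLocalHom φ ∧ b ≫ h = Spec.map (CommRingCat.ofHom φ) := by
  let ξ : PrimeSpectrum A := ⟨⊥, Ideal.isPrime_bot⟩
  have hξ : (ξ : Spec (CommRingCat.of A)) ⤳ h v := by
    rw [hv]
    exact (PrimeSpectrum.le_iff_specializes _ _).1 bot_le
  obtain ⟨q, hqv, hq⟩ := Flat.generalizingMap h hξ
  obtain ⟨R, b, hb, hbw⟩ := H12AlgSp.exists_valuation_of_specializes (𝟙 V) q (z := v) hqv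
  let φ : A →+* R := (Spec.preimage (b ≫ h)).hom
  have hφ : Spec.map (CommRingCat.ofHom φ) = b ≫ h := Spec.map_preimage _
  refine ⟨R, inferInstance, inferInstance, inferInstance, φ, b, ?_, ?_, hφ.symm⟩
  · let g : Spec (CommRingCat.of (V.residueField q)) ⟶ Spec (CommRingCat.of A) :=
      Spec.map (CommRingCat.ofHom ((algebraMap R (V.residueField q)).comp φ))
    have hg : g = V.fromSpecResidueField q ≫ h := by
      have : g = Spec.map (CommRingCat.ofHom (algebraMap R (V.residueField q))) ≫ b ≫ h := by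
        rw [← hφ, ← Spec.map_comp]
        rfl
      rw [this, ← Category.assoc, hbw, Category.comp_id]
    have hpt : PrimeSpectrum.comap ((algebraMap R (V.residueField q)).comp φ) (closedPoint (V.residueField q)) = ξ := by
      refine Eq.trans (congr($hg (closedPoint (V.residueField q)))) ?_
      rw [Scheme.Hom.comp_apply, Scheme.fromSpecResidueField_apply]
      exact hq
    rw [RingHom.injective_iff_ker_eq_bot, eq_bot_iff]
    intro a ha
    have h1 := congrArg PrimeSpectrum.asIdeal hpt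
    have h2 : a ∈ ξ.asIdeal := by
      rw [← h1]
      change (algebraMap R (V.residueField q)) (φ a) ∈ maximalIdeal (V.residueField q)
      rw [RingHom.mem_ker.1 ha, map_zero]
      exact zero_mem _
    exact h2
  · rw [isLocalHom_iff_comap_closedPoint]
    refine Eq.trans (congr($hφ (closedPoint R))) ?_
    rw [Scheme.Hom.comp_apply, hb]
    exact hv

/-- Valuation rings lift along flat morphisms of stacks. -/
theorem exists_lift (h𝒳 : AlgSt.IsAlgStack Scheme.fppfPrecoverage 𝒳)
    (h𝒴 : AlgSt.IsAlgStack Scheme.fppfPrecoverage 𝒴) (f : 𝒳 ⥤ᵇ 𝒴) (hf : AlgSt.LocQ (AlgSp.LocP @Flat) f)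
    (A : Type u) [CommRing A] [IsDomain A] [ValuationRing A] (sA : Spec (CommRingCat.of A) ⟶ S)
    (a : FibCat.overCat (Over.mk sA) ⥤ᵇ 𝒴)
    (ha : AlgSt.Points.ofChart a (IsLocalRing.closedPoint A) ∈ Set.range (AlgSt.Points.map f)) :
    ∃ (A' : Type u) (_ : CommRing A') (_ : IsDomain A') (_ : ValuationRing A') (φ : A →+* A'),
      Function.Injective φ ∧ IsLocalHom φ ∧
      ∃ x : FibCat.overCat (Over.mk (Spec.map (CommRingCat.ofHom φ) ≫ sA)) ⥤ᵇ 𝒳,
        Nonempty (BasedFunctor.comp x f ≅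
          BasedFunctor.comp (AlgSt.overMap (Over.homMk (Spec.map (CommRingCat.ofHom φ)) rfl :
            Over.mk (Spec.map (CommRingCat.ofHom φ) ≫ sA) ⟶ Over.mk sA)) a) := by
  let T : Over S := Over.mk sA
  have hT := isAlgStack_overCat T
  have hW := isAlgStack_fp' hT h𝒳 h𝒴 a f
  let g := FibCat.fpFst a f
  have hg : AlgSt.LocQ (AlgSp.LocP @Flat) g :=
    locQ_baseChange smLocal_flat (baseStable_locP H12AlgSp.etLocal_flat) h𝒳 h𝒴 hT a hf
  let y := AlgSt.overMap (𝟙 T)
  obtain ⟨B, c, h, hc, hcs, ⟨j⟩⟩ := exists_atlas_fp hW hT g y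
  haveI : Flat h.left := (locP_yon_iff H12AlgSp.etLocal_flat h).1
    (prop_of_locQ smLocal_flat hg (repWith_overMap_smooth (𝟙 T)) c hc j)
  let tt : AlgSt.Points (FibCat.overCat T) :=
    AlgSt.Points.ofChart (BasedFunctor.id (FibCat.overCat T)) (closedPoint A)
  obtain ⟨p, hp⟩ := ha
  rw [ofChart_eq_map] at hp
  obtain ⟨w, hw, -⟩ := exists_points_fp hT.isStack.1 h𝒳.isStack.1 h𝒴.isStack.1 (F := a) (G := f) (x := tt) hp.symm
  have hy : AlgSt.Points.map g w = AlgSt.Points.map y tt := by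
    refine hw.trans (chartPoint_injective ?_)
    rw [chartPoint_overMap]
    rfl
  obtain ⟨w', -, hw'⟩ := exists_points_fp hW.isStack.1 hT.isStack.1 hT.isStack.1 (F := g) (G := y) hy
  obtain ⟨v, hv⟩ := ofChart_surjective (fp_fibGrpd hW.isStack.1 hT.isStack.1 hT.isStack.1) hcs w'
  have hvp : h.left v = closedPoint A := by
    have h1 : AlgSt.Points.ofChart (BasedFunctor.comp c (FibCat.fpSnd g y)) v = tt := by
      rw [ofChart_comp, hv, hw']
    rw [ofChart_iso j v, ofChart_eq_map] at h1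
    have h2 := congrArg chartPoint h1
    rw [chartPoint_overMap, chartPoint_ofChart, chartPoint_ofChart] at h2
    exact h2
  obtain ⟨A', _, _, _, φ, b, hinj, hloc, hb⟩ := exists_extension (V := B.left) (h.left) v hvp
  refine ⟨A', inferInstance, inferInstance, inferInstance, φ, hinj, hloc, ?_⟩
  let T' : Over S := Over.mk (Spec.map (CommRingCat.ofHom φ) ≫ sA)
  let d : T' ⟶ B := Over.homMk b (by
    change b ≫ B.hom = Spec.map _ ≫ sA
    rw [← hb, Category.assoc, ← Over.w h]
    rfl)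
  let φT : T' ⟶ T := Over.homMk (Spec.map (CommRingCat.ofHom φ)) rfl
  have hd : d ≫ h ≫ 𝟙 T = φT := by
    rw [Category.comp_id]
    exact Over.OverMorphism.ext hb
  let c₁ := BasedFunctor.comp c (FibCat.fpFst g y)
  refine ⟨BasedFunctor.comp (AlgSt.overMap d) (BasedFunctor.comp c₁ (FibCat.fpSnd a f)), ?_⟩
  have e₁ : BasedFunctor.comp (BasedFunctor.comp c₁ (FibCat.fpSnd a f)) f ≅ BasedFunctor.comp (BasedFunctor.comp c₁ g) a :=
    ((Stk.restr c₁ 𝒴).mapIso (FibCat.fpIso a f)).symm
  have e₂ : BasedFunctor.comp c₁ g ≅ BasedFunctor.comp (AlgSt.overMap h) y :=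
    (Stk.restr c (FibCat.overCat T)).mapIso (FibCat.fpIso g y) ≪≫ (post (FibCat.overCat B) y).mapIso j
  obtain ⟨k₁⟩ := overMap_comp_iso h (𝟙 T) a h𝒴.isStack.1
  obtain ⟨k₂⟩ := overMap_comp_iso d (h ≫ 𝟙 T) a h𝒴.isStack.1
  have e₃ : BasedFunctor.comp (BasedFunctor.comp c₁ (FibCat.fpSnd a f)) f ≅
      BasedFunctor.comp (AlgSt.overMap (h ≫ 𝟙 T)) a :=
    e₁ ≪≫ (post (FibCat.overCat B) a).mapIso e₂ ≪≫ k₁
  exact ⟨(Stk.restr (AlgSt.overMap d) 𝒴).mapIso e₃ ≪≫ k₂ ≪≫ eqToIso (by rw [hd])⟩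

end Groth.Agent.H14ValLift
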